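import Cfsg.Agent.Jordan.Unitary
import Mathlib.GroupTheory.Index
import Mathlib.Analysis.SpecialFunctions.Complex.Arg
import Mathlib.Analysis.SpecialFunctions.Trigonometric.Basic

/-!
The abelian normal subgroup generated by the elements close to scalars meets every abelian
subgroup in a subgroup of index at most `12 ^ n`.
-/

set_option autoImplicit false

namespace Cfsg.Agent.Jordan

open Module

universe u v

variable {G : Type u} [Group G] {S : Type v} [NormedAddCommGroup S] [InnerProductSpace ℂ S]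
  [FiniteDimensional ℂ S] {σ : G →* (S →L[ℂ] S)}

omit [FiniteDimensional ℂ S] in
theorem inner_isometry (hσ : ∀ g v, ‖σ g v‖ = ‖v‖) (g : G) (u v : S) :
    (inner ℂ (σ g u) (σ g v) : ℂ) = inner ℂ u v :=
  ({ toLinearMap := (σ g : S →ₗ[ℂ] S), norm_map' := hσ g } : S →ₗᵢ[ℂ] S).inner_map_map u v

/-- Commuting operators of the family have a common eigenvector in any invariant subspace. -/
theorem exists_common_eigenvector (H : Subgroup G) (hH : ∀ x ∈ H, ∀ y ∈ H, x * y = y * x)
    (n : ℕ) : ∀ U : Submodule ℂ S, finrank ℂ U = n → U ≠ ⊥ → (∀ h ∈ H, ∀ v ∈ U, σ h v ∈ U) →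
      ∃ v ∈ U, v ≠ 0 ∧ ∀ h ∈ H, ∃ a : ℂ, σ h v = a • v := by
  induction n using Nat.strong_induction_on with
  | _ n ih =>
    intro U hn hU hinv
    have : Nontrivial U := Submodule.nontrivial_iff_ne_bot.mpr hU
    by_cases hall : ∀ h ∈ H, ∃ a : ℂ, ∀ v ∈ U, σ h v = a • v
    · obtain ⟨v, hv, hv0⟩ := Submodule.exists_mem_ne_zero_of_ne_bot hU
      exact ⟨v, hv, hv0, fun h hh => (hall h hh).imp fun a ha => ha v hv⟩
    push Not at hall
    obtain ⟨h, hh, hnot⟩ := hall
    let f : Module.End ℂ U := (σ h : S →ₗ[ℂ] S).restrict (hinv h hh)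
    obtain ⟨a, ha⟩ := Module.End.exists_eigenvalue f
    set E := (f.eigenspace a).map U.subtype with hE
    have hmem : ∀ v, v ∈ E ↔ v ∈ U ∧ σ h v = a • v := by
      intro v
      constructor
      · rintro ⟨⟨w, hw⟩, hwE, rfl⟩
        exact ⟨hw, congrArg Subtype.val (Module.End.mem_eigenspace_iff.mp hwE)⟩
      · rintro ⟨hv, hva⟩
        exact ⟨⟨v, hv⟩, Module.End.mem_eigenspace_iff.mpr (Subtype.ext hva), rfl⟩
    have hlt : E < U := by
      refine lt_of_le_of_ne (fun v hv => ((hmem v).mp hv).1) fun he => ?_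
      obtain ⟨v, hv, hne⟩ := hnot a
      exact hne ((hmem v).mp (he ▸ hv)).2
    have hEne : E ≠ ⊥ := by
      intro h0
      exact ha (Submodule.map_injective_of_injective U.injective_subtype
        (h0.trans (Submodule.map_bot _).symm))
    obtain ⟨v, hv, hv'⟩ := ih _ (hn ▸ Submodule.finrank_lt_finrank_of_lt hlt) E rfl hEne
      (fun k hk v hv => by
        rw [hmem] at hv ⊢
        refine ⟨hinv k hk v hv.1, ?_⟩
        rw [← mul_apply_eq_comp, ← map_mul, hH h hh k hk, map_mul, mul_apply_eq_comp, hv.2,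
          map_smul])
    exact ⟨v, ((hmem v).mp hv).1, hv'⟩

/-- Eigenvalue lists for an abelian subgroup, with the operator norm bound. -/
theorem exists_eigen_bound (hσ : ∀ g v, ‖σ g v‖ = ‖v‖) (H : Subgroup G)
    (hH : ∀ x ∈ H, ∀ y ∈ H, x * y = y * x) (n : ℕ) :
    ∀ U : Submodule ℂ S, finrank ℂ U = n → (∀ h ∈ H, ∀ v ∈ U, σ h v ∈ U) →
      ∃ s : Fin n → G → ℂ, (∀ i, ∀ h ∈ H, ‖s i h‖ = 1) ∧
        (∀ i, ∀ h ∈ H, ∀ k ∈ H, s i (h * k) = s i h * s i k) ∧
        ∀ h ∈ H, ∀ (c : ℂ) (r : ℝ), 0 ≤ r → (∀ i, ‖s i h - c‖ ≤ r) →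
          ∀ v ∈ U, ‖σ h v - c • v‖ ≤ r * ‖v‖ := by
  induction n with
  | zero =>
    intro U hn _
    refine ⟨fun i => i.elim0, fun i => i.elim0, fun i => i.elim0, fun h _ c r hr _ v hv => ?_⟩
    rw [Submodule.finrank_eq_zero.mp hn, Submodule.mem_bot] at hv
    simp [hv]
  | succ n ih =>
    intro U hn hinv
    have hU : U ≠ ⊥ := fun h => by rw [h, finrank_bot] at hn; omega
    obtain ⟨w, hw, hw0, hwa⟩ := exists_common_eigenvector H hH _ U rfl hU hinv
    choose a ha using hwa
    classical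
    let t : G → ℂ := fun h => if hh : h ∈ H then a h hh else 1
    have ht : ∀ h ∈ H, σ h w = t h • w := fun h hh => by simpa [t, dif_pos hh] using ha h hh
    have htn : ∀ h ∈ H, ‖t h‖ = 1 := fun h hh => by
      have h1 := hσ h w
      rw [ht h hh, norm_smul] at h1
      exact mul_right_cancel₀ (norm_ne_zero_iff.mpr hw0) (h1.trans (one_mul _).symm)
    have htm : ∀ h ∈ H, ∀ k ∈ H, t (h * k) = t h * t k := fun h hh k hk => by
      have h1 := ht (h * k) (H.mul_mem hh hk)
      rw [map_mul, mul_apply_eq_comp, ht k hk, map_smul, ht h hh, smul_smul, mul_comm] at h1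
      exact (smul_left_injective ℂ hw0 h1).symm
    set L := Submodule.span ℂ ({w} : Set S) with hL
    set U' := Lᗮ ⊓ U with hU'
    have hLU : L ≤ U := by rwa [hL, Submodule.span_singleton_le_iff_mem]
    have hmem : ∀ v, v ∈ U' ↔ (inner ℂ w v : ℂ) = 0 ∧ v ∈ U := fun v => by
      rw [hU', Submodule.mem_inf, hL, Submodule.mem_orthogonal_singleton_iff_inner_right]
    have hdim : finrank ℂ U' = n := by
      have h1 := Submodule.finrank_add_inf_finrank_orthogonal hLU
      rw [hn, hL, finrank_span_singleton hw0] at h1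
      rw [hU', hL]; omega
    obtain ⟨s, hs1, hs2, hs3⟩ := ih U' hdim (fun h hh v hv => by
      rw [hmem] at hv ⊢
      refine ⟨?_, hinv h hh v hv.2⟩
      have h1 := inner_isometry hσ h w v
      rw [hv.1, ht h hh, inner_smul_left] at h1
      exact (mul_eq_zero.mp h1).resolve_left
        (by rw [← ne_eq, ← norm_ne_zero_iff, RCLike.norm_conj, htn h hh]; exact one_ne_zero))
    have g1 : ∀ i, ∀ h ∈ H, ‖(Fin.cons t s : Fin (n + 1) → G → ℂ) i h‖ = 1 :=
      Fin.cases (by simpa using htn) (by simpa using hs1)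
    have g2 : ∀ i, ∀ h ∈ H, ∀ k ∈ H, (Fin.cons t s : Fin (n + 1) → G → ℂ) i (h * k) =
        (Fin.cons t s : Fin (n + 1) → G → ℂ) i h * (Fin.cons t s : Fin (n + 1) → G → ℂ) i k :=
      Fin.cases (by simpa using htm) (by simpa using hs2)
    refine ⟨Fin.cons t s, g1, g2, ?_⟩
    intro h hh c r hr hb v hv
    have hsup : L ⊔ U' = U := Submodule.sup_orthogonal_inf_of_hasOrthogonalProjection hLU
    obtain ⟨l, hl, v', hv', rfl⟩ := Submodule.mem_sup.mp (hsup.symm ▸ hv)
    obtain ⟨b, rfl⟩ := Submodule.mem_span_singleton.mp hl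
    have h0 : ‖t h - c‖ ≤ r := by simpa using hb 0
    have hA : σ h (b • w) - c • (b • w) = (b * (t h - c)) • w := by
      rw [map_smul, ht h hh]; module
    have hAn : ‖σ h (b • w) - c • (b • w)‖ ≤ r * ‖b • w‖ := by
      rw [hA, norm_smul, norm_mul, norm_smul]
      nlinarith [norm_nonneg b, norm_nonneg w, mul_nonneg (norm_nonneg b) (norm_nonneg w)]
    have hBn := hs3 h hh c r hr (fun i => by simpa using hb i.succ) v' hv'
    have horth1 : (inner ℂ (b • w) v' : ℂ) = 0 := by
      rw [inner_smul_left, ((hmem v').mp hv').1, mul_zero]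
    have horth2 : (inner ℂ (σ h (b • w) - c • (b • w)) (σ h v' - c • v') : ℂ) = 0 := by
      rw [hA, inner_smul_left, inner_sub_right, inner_smul_right, ((hmem v').mp hv').1]
      have h1 := inner_isometry hσ h w v'
      rw [((hmem v').mp hv').1, ht h hh, inner_smul_left] at h1
      rw [(mul_eq_zero.mp h1).resolve_left
        (by rw [← ne_eq, ← norm_ne_zero_iff, RCLike.norm_conj, htn h hh]; exact one_ne_zero)]
      simp
    have hsplit : σ h (b • w + v') - c • (b • w + v') =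
        (σ h (b • w) - c • (b • w)) + (σ h v' - c • v') := by
      rw [map_add, smul_add]; abel
    rw [hsplit]
    have p1 := norm_add_sq_eq_norm_sq_add_norm_sq_of_inner_eq_zero _ _ horth1
    have p2 := norm_add_sq_eq_norm_sq_add_norm_sq_of_inner_eq_zero _ _ horth2
    refine nonneg_le_nonneg_of_sq_le_sq (by positivity) ?_
    have q1 := mul_le_mul hAn hAn (norm_nonneg _) (by positivity)
    have q2 := mul_le_mul hBn hBn (norm_nonneg _) (by positivity)
    have p3 : r * ‖b • w + v'‖ * (r * ‖b • w + v'‖) =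
        r * ‖b • w‖ * (r * ‖b • w‖) + r * ‖v'‖ * (r * ‖v'‖) := by linear_combination (r * r) * p1
    linarith

/-- An argument of `z` in `[-π, π)`. -/
noncomputable def phase (z : ℂ) : ℝ :=
  if z.arg = Real.pi then -Real.pi else z.arg

theorem exp_phase {z : ℂ} (hz : ‖z‖ = 1) : Complex.exp (phase z * Complex.I) = z := by
  have h : Complex.exp (z.arg * Complex.I) = z := by
    simpa [hz] using Complex.norm_mul_exp_arg_mul_I z
  unfold phase
  split_ifs with hp
  · rw [hp] at h
    rw [← h]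
    push_cast
    rw [neg_mul, Complex.exp_neg, Complex.exp_pi_mul_I]
    norm_num
  · exact h

theorem phase_nonneg_lt (z : ℂ) : -Real.pi ≤ phase z ∧ phase z < Real.pi := by
  unfold phase
  split_ifs with hp
  · exact ⟨le_rfl, by linarith [Real.pi_pos]⟩
  · exact ⟨(Complex.neg_pi_lt_arg z).le, lt_of_le_of_ne (Complex.arg_le_pi z) hp⟩

/-- The arc (one of twelve) containing a complex number. -/
noncomputable def box (z : ℂ) : Fin 12 :=
  ⟨⌊(phase z + Real.pi) / (Real.pi / 6)⌋₊, by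
    have := phase_nonneg_lt z
    rw [Nat.floor_lt' (by norm_num), div_lt_iff₀ (by positivity)]
    push_cast
    linarith⟩

theorem box_spec {a b : ℂ} (ha : ‖a‖ = 1) (hb : ‖b‖ = 1) (h : box a = box b) :
    ‖a⁻¹ * b - (Real.sqrt 3 / 2 : ℝ)‖ < 1 / 2 := by
  have hp := Real.pi_pos
  set d := phase b - phase a with hd0
  have hab : a⁻¹ * b = Complex.exp ((d : ℂ) * Complex.I) := by
    conv_lhs => rw [← exp_phase ha, ← exp_phase hb]
    rw [← Complex.exp_neg, ← Complex.exp_add, hd0]
    push_cast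
    ring_nf
  have hd : |d| < Real.pi / 6 := by
    have key : ∀ z : ℂ, ((box z : ℕ) : ℝ) ≤ (phase z + Real.pi) / (Real.pi / 6) ∧
        (phase z + Real.pi) / (Real.pi / 6) < ((box z : ℕ) : ℝ) + 1 := fun z =>
      ⟨Nat.floor_le (div_nonneg (by linarith [(phase_nonneg_lt z).1]) (by positivity)),
        Nat.lt_floor_add_one _⟩
    obtain ⟨a1, a2⟩ := key a
    obtain ⟨b1, b2⟩ := key b
    rw [h] at a1 a2
    rw [le_div_iff₀ (by positivity)] at a1 b1
    rw [div_lt_iff₀ (by positivity)] at a2 b2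
    rw [abs_lt, hd0]
    constructor <;> linarith
  have hcos : Real.sqrt 3 / 2 < Real.cos d := by
    rw [← Real.cos_pi_div_six, ← Real.cos_abs d]
    exact Real.cos_lt_cos_of_nonneg_of_le_pi (abs_nonneg _) (by linarith) hd
  rw [hab]
  set e := Complex.exp ((d : ℂ) * Complex.I) with he
  have hre : e.re = Real.cos d := by rw [he, Complex.exp_ofReal_mul_I_re]
  have him : e.im = Real.sin d := by rw [he, Complex.exp_ofReal_mul_I_im]
  have hsq : ‖e - (Real.sqrt 3 / 2 : ℝ)‖ ^ 2 < (1 / 2) ^ 2 := by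
    rw [← Complex.normSq_eq_norm_sq, Complex.normSq_apply]
    simp only [Complex.sub_re, Complex.sub_im, Complex.ofReal_re, Complex.ofReal_im, sub_zero,
      hre, him]
    nlinarith [Real.sin_sq_add_cos_sq d, Real.sq_sqrt (show (0 : ℝ) ≤ 3 by norm_num),
      mul_lt_mul_of_pos_left hcos (Real.sqrt_pos.mpr (show (0 : ℝ) < 3 by norm_num))]
  exact lt_of_pow_lt_pow_left₀ 2 (by norm_num) hsq

/-- Faithful isometric groups: an abelian normal subgroup meeting every abelian subgroup in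
index at most `12 ^ dim`. -/
theorem exists_abelian_normal_bound [Finite G] (hσ : ∀ g v, ‖σ g v‖ = ‖v‖)
    (hinj : Function.Injective σ) :
    ∃ A : Subgroup G, A.Normal ∧ (∀ x ∈ A, ∀ y ∈ A, x * y = y * x) ∧
      ∀ H : Subgroup G, (∀ x ∈ H, ∀ y ∈ H, x * y = y * x) →
        (A.subgroupOf H).index ≤ 12 ^ finrank ℂ S := by
  classical
  refine ⟨Subgroup.closure (nearScalar σ), ?_, ?_, fun H hH => ?_⟩
  · constructor
    intro a ha g
    induction ha using Subgroup.closure_induction with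
    | mem x hx => exact Subgroup.subset_closure (nearScalar_conj hσ hx g)
    | one => simp
    | mul x y _ _ hx hy =>
      rw [show g * (x * y) * g⁻¹ = g * x * g⁻¹ * (g * y * g⁻¹) by group]
      exact mul_mem hx hy
    | inv x _ hx =>
      rw [show g * x⁻¹ * g⁻¹ = (g * x * g⁻¹)⁻¹ by group]
      exact inv_mem hx
  · have hc := Subgroup.isMulCommutative_closure (k := nearScalar σ)
      fun x hx y hy => (nearScalar_commute hσ hinj hx hy).eq
    intro x hx y hy
    exact congrArg Subtype.val (hc.is_comm.comm (⟨x, hx⟩ : Subgroup.closure (nearScalar σ)) ⟨y, hy⟩)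
  obtain ⟨s, hs1, hs2, hs3⟩ := exists_eigen_bound hσ H hH (finrank ℂ S) (⊤ : Submodule ℂ S)
    (finrank_top ℂ S) (fun _ _ _ _ => Submodule.mem_top)
  let φ : H → Fin (finrank ℂ S) → Fin 12 := fun h i => box (s i h)
  have hφ : ∀ x y : H, φ x = φ y → (x : G)⁻¹ * y ∈ nearScalar σ := by
    intro x y hxy
    obtain ⟨r, hr0, hr1, hr⟩ : ∃ r : ℝ, 0 ≤ r ∧ r < 1 / 2 ∧ ∀ i,
        ‖s i ((x : G)⁻¹ * y) - ((Real.sqrt 3 / 2 : ℝ) : ℂ)‖ ≤ r := by
      have hval : ∀ i, ‖s i ((x : G)⁻¹ * y) - ((Real.sqrt 3 / 2 : ℝ) : ℂ)‖ < 1 / 2 := by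
        intro i
        have hx0 : s i x ≠ 0 := fun h0 => by simpa [h0] using hs1 i x x.2
        have h1 := hs2 i x x.2 ((x : G)⁻¹ * y) (H.mul_mem (H.inv_mem x.2) y.2)
        rw [mul_inv_cancel_left] at h1
        rw [show s i ((x : G)⁻¹ * y) = (s i x)⁻¹ * s i y by rw [h1, inv_mul_cancel_left₀ hx0]]
        exact box_spec (hs1 i x x.2) (hs1 i y y.2) (congrFun hxy i)
      rcases isEmpty_or_nonempty (Fin (finrank ℂ S)) with he | he
      · exact ⟨0, le_rfl, by norm_num, fun i => isEmptyElim i⟩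
      · obtain ⟨i, hi⟩ := Finite.exists_max
          fun i => ‖s i ((x : G)⁻¹ * y) - ((Real.sqrt 3 / 2 : ℝ) : ℂ)‖
        exact ⟨_, norm_nonneg _, hval i, hi⟩
    refine ⟨((Real.sqrt 3 / 2 : ℝ) : ℂ), lt_of_le_of_lt ?_ hr1⟩
    refine ContinuousLinearMap.opNorm_le_bound _ hr0 fun v => ?_
    simpa using hs3 _ (H.mul_mem (H.inv_mem x.2) y.2) _ r hr0 hr v Submodule.mem_top
  calc ((Subgroup.closure (nearScalar σ)).subgroupOf H).index
      = Nat.card (H ⧸ (Subgroup.closure (nearScalar σ)).subgroupOf H) := rfl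
    _ ≤ Nat.card (Fin (finrank ℂ S) → Fin 12) := Nat.card_le_card_of_injective (fun q => φ q.out) (by
        intro p q hpq
        rw [← QuotientGroup.out_eq' p, ← QuotientGroup.out_eq' q, QuotientGroup.eq]
        exact Subgroup.subset_closure (hφ _ _ hpq))
    _ = 12 ^ finrank ℂ S := by simp

end Cfsg.Agent.Jordan
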