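import Cfsg.Agent.Char.Galois
import Cfsg.Agent.Char.Gen
import Cfsg.Agent.Char.Linear
import Cfsg.Agent.Char.Integral
import Cfsg.Agent.Core.WielandtHall
import Cfsg.Agent.Fusion.AbelianNormal
import Mathlib.GroupTheory.Transfer
import Mathlib.RingTheory.IntegralClosure.IntegrallyClosed
import Mathlib.RingTheory.Polynomial.RationalRoot

/-!
Blichfeldt: a group with a faithful character of degree `n` has an abelian Hall subgroup for the
primes exceeding `n + 1`.
-/

set_option autoImplicit false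

namespace Cfsg.Agent.Jordan

open Subgroup Cfsg.Agent.Char
open scoped ComplexConjugate Pointwise

universe u

/-- All prime divisors of `m` exceed `n + 1`. -/
def IsBig (n m : ℕ) : Prop := ∀ q : ℕ, q.Prime → q ∣ m → n + 1 < q

variable {G : Type u} [Group G] [Finite G]

/-- A group without small prime divisors and a faithful character of degree `n` is abelian. -/
theorem comm_of_big {χ : G → ℂ} (hχ : IsCharacter G χ) (hf : ∀ g, χ g = χ 1 → g = 1) {n : ℕ}
    (hn : χ 1 = n) (hbig : IsBig n (Nat.card G)) (a b : G) : a * b = b * a := by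
  classical
  have := Fintype.ofFinite G
  obtain ⟨m, hm, hexp, -⟩ := IsChar.exists_mult hχ
  suffices h : χ (a * b * a⁻¹ * b⁻¹) = χ 1 by
    have h1 := hf _ h
    rw [mul_inv_eq_one, mul_inv_eq_iff_eq_mul] at h1
    exact h1
  rw [hexp]
  simp only [Finset.sum_apply, Pi.smul_apply, smul_eq_mul]
  refine Finset.sum_congr rfl fun ψ _ => ?_
  by_cases h0 : m ψ = 0
  · simp [h0]
  congr 1
  obtain ⟨d, hd, hd1⟩ := IsIrr.degree ψ.2
  have hdn : d ≤ n := by
    have h := IsChar.constituent_degree_le hχ ψ.2 (by rw [hm]; exact_mod_cast h0)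
    rw [hn, hd1, Complex.natCast_re, Complex.natCast_re] at h
    exact_mod_cast h
  have h1 : d = 1 := by
    by_contra h1
    obtain ⟨q, hq, hqd⟩ := Nat.exists_prime_and_dvd h1
    have := hbig q hq (hqd.trans (IsIrr.degree_dvd_card ψ.2 hd1))
    have := Nat.le_of_dvd hd hqd
    omega
  obtain ⟨f, hf'⟩ := IsChar.exists_hom (IsIrr.isCharacter ψ.2) (by rw [hd1, h1, Nat.cast_one])
  rw [hf']
  simp [mul_inv_cancel_comm]

/-- Values of `ψ` are fixed by the power maps that are trivial on elements of order prime to `q`. -/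
def IsFixedAway (q : ℕ) (ψ : G → ℂ) : Prop :=
  ∀ e : ℕ, e.Coprime (Nat.card G) → (∀ g : G, ¬ q ∣ orderOf g → g ^ e = g) →
    ∀ g : G, ψ (g ^ e) = ψ g

/-- With no element of order divisible by `q * r`, an irreducible character is `q`-rational or
`r`-rational. -/
theorem fixedAway_or {q r : ℕ} (hq : q.Prime) (hr : r.Prime) (hqr : q ≠ r)
    (hno : ∀ g : G, ¬ q * r ∣ orderOf g) {ψ : G → ℂ} (hψ : IsIrrCharacter G ψ) :
    IsFixedAway q ψ ∨ IsFixedAway r ψ := by
  classical
  have := Fintype.ofFinite G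
  by_contra hcon
  unfold IsFixedAway at hcon
  push Not at hcon
  obtain ⟨⟨e, he, heq, a, ha⟩, ⟨e', he', her, b, hb⟩⟩ := hcon
  set α : G → ℂ := fun g => ψ (g ^ e) with hα
  set β : G → ℂ := fun g => ψ (g ^ e') with hβ
  have hαi : IsIrrCharacter G α := isIrr_comp_pow e he hψ
  have hβi : IsIrrCharacter G β := isIrr_comp_pow e' he' hψ
  have hne1 : α ≠ ψ := fun h => ha (congrFun h a)
  have hne2 : ψ ≠ β := fun h => hb (congrFun h b).symm
  have h0 : classInner (α - ψ) (β - ψ) = 0 := by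
    rw [classInner, Finset.sum_eq_zero, mul_zero]
    intro g _
    by_cases h1 : q ∣ orderOf g
    · have h2 : ¬ r ∣ orderOf g := fun h2 =>
        hno g (((Nat.coprime_primes hq hr).2 hqr).mul_dvd_of_dvd_of_dvd h1 h2)
      have : (β - ψ) g = 0 := by simp [hβ, her g h2]
      simp [this]
    · have : (α - ψ) g = 0 := by simp [hα, heq g h1]
      simp [this]
  rw [classInner_sub_left, classInner_sub_right, classInner_sub_right,
    classInner_irr_ne hαi hψ hne1, classInner_irr_ne hψ hβi hne2, classInner_irr_self hψ] at h0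
  rcases eq_or_ne α β with h | h
  · rw [h, classInner_irr_self hβi] at h0
    norm_num at h0
  · rw [classInner_irr_ne hαi hβi h] at h0
    norm_num at h0

/-- A `q`-rational character of degree less than `q - 1` kills the elements of order `q`. -/
theorem apply_eq_one_of_fixedAway {q : ℕ} (hq : q.Prime) {ψ : G → ℂ} (hψ : IsIrrCharacter G ψ)
    {d : ℕ} (hd : ψ 1 = d) (hdq : d + 1 < q) (hfix : IsFixedAway q ψ) {x : G}
    (hx : orderOf x = q) : ψ x = ψ 1 := by
  classical
  have hχ := IsIrr.isCharacter hψ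
  have hk : ∀ k : ℕ, k < q → k ≠ 0 → ψ (x ^ k) = ψ x := by
    intro k hkq hk0
    have hkc : k.Coprime q := ((hq.coprime_iff_not_dvd).2 fun h =>
      absurd (Nat.le_of_dvd (Nat.pos_of_ne_zero hk0) h) (by omega)).symm
    set a := (Nat.card G).factorization q with ha
    set M := Nat.card G / q ^ a with hM
    have hdec : q ^ a * M = Nat.card G := Nat.ordProj_mul_ordCompl_eq_self _ _
    have hcM : (q ^ a).Coprime M :=
      (Nat.coprime_ordCompl hq Nat.card_pos.ne').pow_left a
    obtain ⟨e, he1, he2⟩ := Nat.chineseRemainder hcM k 1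
    have hqa : q ∣ q ^ a := by
      refine dvd_pow_self q ?_
      exact (hq.factorization_pos_of_dvd Nat.card_pos.ne' (hx ▸ orderOf_dvd_natCard x)).ne'
    have hec : e.Coprime (Nat.card G) := by
      rw [← hdec]
      refine Nat.Coprime.mul_right (Nat.Coprime.pow_right a ?_) ?_
      · exact (he1.of_dvd hqa).gcd_eq.trans hkc
      · exact he2.gcd_eq.trans (Nat.gcd_one_left M)
    have hxe : x ^ e = x ^ k := pow_eq_pow_iff_modEq.2 (hx.symm ▸ he1.of_dvd hqa)
    rw [← hxe]
    refine hfix e hec (fun g hg => ?_) x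
    have hgM : orderOf g ∣ M := by
      have h1 : orderOf g ∣ q ^ a * M := hdec ▸ orderOf_dvd_natCard g
      exact (((hq.coprime_iff_not_dvd).2 hg).symm.pow_right a).dvd_of_dvd_mul_left h1
    conv_rhs => rw [← pow_one g]
    exact pow_eq_pow_iff_modEq.2 (he2.of_dvd hgM)
  obtain ⟨m, ρ, hρ⟩ := hχ
  obtain ⟨μ, b, hb, hμ, hsum⟩ := exists_eigenbasis ρ x
  have hdD : Module.finrank ℂ (Fin m → ℂ) = d := by
    have h := ρ.char_one
    rw [hρ, hd] at h
    exact_mod_cast h.symm
  have hpow : ∀ j : ℕ, ψ (x ^ j) = ∑ i, μ i ^ j := by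
    intro j
    rw [← hρ]
    refine trace_eq_sum_of_eigenbasis _ b _ fun i => ?_
    induction j with
    | zero => simp
    | succ j ih =>
      rw [pow_succ', map_mul, Module.End.mul_apply, ih, map_smul, hb, smul_smul, pow_succ]
  set A := (Finset.univ.filter fun i => μ i = 1) with hA
  have hgeom : ∀ i, ∑ j ∈ Finset.range q, μ i ^ j = if μ i = 1 then (q : ℂ) else 0 := by
    intro i
    split_ifs with h
    · simp [h]
    · have h2 := geom_sum_mul (μ i) q
      rw [show μ i ^ q = 1 from hx ▸ hμ i, sub_self] at h2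
      exact (mul_eq_zero.1 h2).resolve_right (sub_ne_zero.2 h)
  have key : (d : ℂ) + ((q : ℂ) - 1) * ψ x = (q : ℂ) * A.card := by
    have h1 : ∑ j ∈ Finset.range q, ψ (x ^ j) = (q : ℂ) * A.card := by
      rw [Finset.sum_congr rfl fun j _ => hpow j, Finset.sum_comm,
        Finset.sum_congr rfl fun i _ => hgeom i, ← Finset.sum_filter, Finset.sum_const,
        nsmul_eq_mul, mul_comm, hA]
    obtain ⟨q', rfl⟩ : ∃ q', q = q' + 1 := ⟨q - 1, by omega⟩
    rw [← h1, Finset.sum_range_succ']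
    rw [pow_zero, hd, Finset.sum_congr rfl fun j hj => hk (j + 1)
      (Nat.add_lt_add_right (Finset.mem_range.1 hj) 1) j.succ_ne_zero]
    simp
    ring
  obtain ⟨t, ht⟩ : ∃ t : ℤ, ψ x = t := by
    have hint : IsIntegral ℤ (ψ x) := hρ ▸ character_isIntegral ρ x
    have hq1 : (q : ℂ) - 1 ≠ 0 := sub_ne_zero.2 (by exact_mod_cast hq.one_lt.ne')
    have hrat : ψ x = algebraMap ℚ ℂ (((q : ℚ) * A.card - d) / ((q : ℚ) - 1)) := by
      simp only [eq_ratCast, Rat.cast_div, Rat.cast_sub, Rat.cast_mul, Rat.cast_natCast,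
        Rat.cast_one]
      rw [eq_div_iff hq1]
      linear_combination key
    rw [hrat, isIntegral_algebraMap_iff (algebraMap ℚ ℂ).injective,
      IsIntegrallyClosed.isIntegral_iff] at hint
    obtain ⟨t, ht⟩ := hint
    exact ⟨t, by rw [hrat, ← ht]; simp⟩
  rw [ht] at key
  have keyZ : (d : ℤ) + ((q : ℤ) - 1) * t = (q : ℤ) * A.card := by exact_mod_cast key
  have hAd : A.card ≤ d := hdD ▸ (Finset.card_le_univ _).trans (Fintype.card_fin _).le
  have hAd' : A.card = d := by
    have h1 : ((q : ℤ) - 1) ∣ ((d : ℤ) - A.card) :=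
      ⟨(A.card : ℤ) - t, by linear_combination keyZ⟩
    have h2 : (d : ℤ) - A.card = 0 := by
      by_contra hne
      have := Int.le_of_dvd (by omega) h1
      omega
    omega
  have hall : ∀ i, μ i = 1 := fun i => by
    have h1 : A = Finset.univ :=
      Finset.eq_univ_of_card A (by rw [hAd', Fintype.card_fin, hdD])
    have h2 : i ∈ A := h1 ▸ Finset.mem_univ i
    simpa [hA] using h2
  rw [← pow_one x, hpow 1, hd, ← hdD]
  simp [hall]

/-- For primes `q ≠ r` above `n + 1` some element has order divisible by `q * r`. -/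
theorem exists_orderOf_dvd {χ : G → ℂ} (hχ : IsCharacter G χ) (hf : ∀ g, χ g = χ 1 → g = 1)
    {n : ℕ} (hn : χ 1 = n) {q r : ℕ} (hq : q.Prime) (hr : r.Prime) (hqr : q ≠ r)
    (hqn : n + 1 < q) (hrn : n + 1 < r) (hqG : q ∣ Nat.card G) (hrG : r ∣ Nat.card G) :
    ∃ g : G, q * r ∣ orderOf g := by
  classical
  by_contra hno
  push Not at hno
  have := Fintype.ofFinite G
  have := Fact.mk hq
  have := Fact.mk hr
  obtain ⟨x, hx⟩ := exists_prime_orderOf_dvd_card' q hqG
  obtain ⟨y, hy⟩ := exists_prime_orderOf_dvd_card' r hrG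
  suffices h : χ (x * y * x⁻¹ * y⁻¹) = χ 1 by
    have h1 := hf _ h
    rw [mul_inv_eq_one, mul_inv_eq_iff_eq_mul] at h1
    refine hno (x * y) ?_
    rw [Commute.orderOf_mul_eq_mul_orderOf_of_coprime h1
      (by rw [hx, hy]; exact (Nat.coprime_primes hq hr).2 hqr), hx, hy]
  obtain ⟨m, hm, hexp, -⟩ := IsChar.exists_mult hχ
  rw [hexp]
  simp only [Finset.sum_apply, Pi.smul_apply, smul_eq_mul]
  refine Finset.sum_congr rfl fun ψ _ => ?_
  by_cases h0 : m ψ = 0
  · simp [h0]
  congr 1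
  obtain ⟨d, -, hd1⟩ := IsIrr.degree ψ.2
  have hdn : d ≤ n := by
    have h := IsChar.constituent_degree_le hχ ψ.2 (by rw [hm]; exact_mod_cast h0)
    rw [hn, hd1, Complex.natCast_re, Complex.natCast_re] at h
    exact_mod_cast h
  set S := kerSubgroup (IsIrr.isCharacter ψ.2) with hS
  have hnorm : S.Normal := kerSubgroup_normal _
  show x * y * x⁻¹ * y⁻¹ ∈ S
  rcases fixedAway_or hq hr hqr hno ψ.2 with h | h
  · have hxS : x ∈ S := apply_eq_one_of_fixedAway hq ψ.2 hd1 (by omega) h hx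
    have h2 := mul_mem hxS (hnorm.conj_mem x⁻¹ (inv_mem hxS) y)
    rw [← mul_assoc, ← mul_assoc] at h2
    exact h2
  · have hyS : y ∈ S := apply_eq_one_of_fixedAway hr ψ.2 hd1 (by omega) h hy
    exact mul_mem (hnorm.conj_mem y hyS x) (inv_mem hyS)

/-- A Hall subgroup for the primes above `n + 1`. -/
def IsBigHall (n : ℕ) (H : Subgroup G) : Prop :=
  IsBig n (Nat.card H) ∧ ∀ q : ℕ, q.Prime → q ∣ H.index → q ≤ n + 1

/-- A Hall subgroup of a subgroup `L` can be chosen above a given big subgroup. -/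
theorem exists_bigHall_ge {χ : G → ℂ} (hχ : IsCharacter G χ) (hf : ∀ g, χ g = χ 1 → g = 1)
    {n : ℕ} (hn : χ 1 = n) {L K : Subgroup G} (hKL : K ≤ L) (hK : IsBig n (Nat.card K))
    {H₀ : Subgroup L} (hH₀ : IsBigHall n H₀) :
    ∃ H : Subgroup G, K ≤ H ∧ H ≤ L ∧ IsBig n (Nat.card H) ∧
      ∀ q : ℕ, q.Prime → q ∣ H.relIndex L → q ≤ n + 1 := by
  have hcomm : ∀ a b : H₀, a * b = b * a :=
    comm_of_big (isCharacter_comp (L.subtype.comp H₀.subtype) hχ)
      (fun g hg => Subtype.ext (Subtype.ext (hf _ hg))) hn hH₀.1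
  have hnil : Group.IsNilpotent H₀ := by
    let _ : CommGroup H₀ := { (inferInstance : Group H₀) with mul_comm := hcomm }
    infer_instance
  have hcop : ∀ {m : ℕ}, IsBig n m → m.Coprime H₀.index := fun hm =>
    Nat.coprime_of_dvd fun q hq h1 h2 => absurd (hH₀.2 q hq h2) (by have := hm q hq h1; omega)
  obtain ⟨l, hl⟩ := Core.exists_le_conj_nilpotent_hall hnil (hcop hH₀.1)
    (K := K.subgroupOf L)
    (hcop (by rwa [Nat.card_congr (subgroupOfEquivOfLe hKL).toEquiv]))
  set H₁ : Subgroup L := MulAut.conj l • H₀ with hH₁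
  have hc : Nat.card H₁ = Nat.card H₀ :=
    card_map_of_injective (MulAut.conj l).injective
  have hi : H₁.index = H₀.index := Nat.eq_of_mul_eq_mul_left Nat.card_pos
    ((H₁.card_mul_index).trans (hc.symm ▸ (H₀.card_mul_index).symm))
  refine ⟨H₁.map L.subtype, ?_, map_subtype_le _, ?_, fun q hq h => hH₀.2 q hq ?_⟩
  · have h1 := map_mono (f := L.subtype) hl
    rwa [map_subgroupOf_eq_of_le hKL] at h1
  · rw [card_map_of_injective L.subtype_injective, hc]; exact hH₀.1
  · have e : (H₁.map L.subtype).relIndex L = H₁.index := by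
      rw [relIndex, subgroupOf, comap_map_eq_self_of_injective L.subtype_injective]
    rwa [e, hi] at h

theorem exists_bigHall_central {χ : G → ℂ} (hχ : IsCharacter G χ) (hf : ∀ g, χ g = χ 1 → g = 1)
    {n : ℕ} (hn : χ 1 = n) (hsub : ∀ L : Subgroup G, L ≠ ⊤ → ∃ H : Subgroup L, IsBigHall n H)
    {z : G} (hz : z ∈ center G) (hp : (orderOf z).Prime) (hpn : n + 1 < orderOf z) :
    ∃ H : Subgroup G, IsBigHall n H := by
  set p := orderOf z with hpz
  have := Fact.mk hp
  have hzp : IsPGroup p (zpowers z) := IsPGroup.of_card (n := 1) (by rw [Nat.card_zpowers, pow_one])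
  obtain ⟨P, hzP⟩ := hzp.exists_le_sylow
  obtain ⟨k, hk⟩ := IsPGroup.iff_card.1 P.isPGroup'
  have hPbig : IsBig n (Nat.card (P : Subgroup G)) := fun q hq h => by
    rw [hk] at h
    rwa [(Nat.prime_dvd_prime_iff_eq hq hp).1 (hq.dvd_of_dvd_pow h)]
  have hPc : IsMulCommutative (P : Subgroup G) :=
    ⟨⟨comm_of_big (isCharacter_res _ hχ) (fun g hg => Subtype.ext (hf _ hg)) hn hPbig⟩⟩
  let _ : CommGroup (P : Subgroup G) :=
    { (inferInstance : Group (P : Subgroup G)) with mul_comm := hPc.is_comm.comm }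
  let T : G →* (P : Subgroup G) := MonoidHom.transfer (MonoidHom.id (P : Subgroup G))
  have key : ∀ (j : ℕ) (g₀ : G), g₀⁻¹ * z ^ j * g₀ ∈ (P : Subgroup G) →
      g₀⁻¹ * z ^ j * g₀ = z ^ j := fun j g₀ _ => by
    rw [mul_assoc, ← mem_center_iff.1 (pow_mem hz j) g₀, inv_mul_cancel_left]
  have hTz : T z ≠ 1 := by
    intro h
    have h2 : T z = _ := MonoidHom.transfer_eq_pow (MonoidHom.id (P : Subgroup G)) z key
    rw [h, MonoidHom.id_apply] at h2
    have h3 : z ^ (P : Subgroup G).index = 1 := (congrArg Subtype.val h2).symm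
    exact P.not_dvd_index (orderOf_dvd_of_pow_eq_one h3)
  have hKtop : T.ker ≠ ⊤ := fun e =>
    hTz (MonoidHom.mem_ker.1 (e ▸ mem_top z))
  have hKidx : T.ker.index ∣ p ^ k := by
    rw [index_ker]
    exact hk ▸ card_subgroup_dvd_card T.range
  set K := T.ker with hK
  obtain ⟨H₀, hH₀⟩ := hsub K hKtop
  set HK := H₀.map K.subtype with hHK
  have hHKle : HK ≤ K := map_subtype_le _
  have hHKcard : Nat.card HK = Nat.card H₀ := card_map_of_injective K.subtype_injective
  have hrel : HK.relIndex K = H₀.index := by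
    rw [relIndex, subgroupOf, hHK, comap_map_eq_self_of_injective K.subtype_injective]
  have hHKbig : IsBig n (Nat.card HK) := hHKcard.symm ▸ hH₀.1
  have hHKc : IsMulCommutative HK :=
    ⟨⟨comm_of_big (isCharacter_res _ hχ) (fun g hg => Subtype.ext (hf _ hg)) hn hHKbig⟩⟩
  set Nm := normalizer (HK : Set G) with hNm
  have hgen : Nm ⊔ K = ⊤ := by
    refine eq_top_iff.2 fun g _ => ?_
    have h1 : Fusion.conjSub g HK ≤ K := fun x hx => by
      rw [Fusion.mem_conjSub] at hx
      have h := (inferInstance : K.Normal).conj_mem _ (hHKle hx) g⁻¹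
      simpa [mul_assoc] using h
    have hcs : Nat.card (Fusion.conjSub g HK) = Nat.card HK :=
      card_map_of_injective (MulAut.conj g⁻¹).injective
    have h2 : IsMulCommutative (Fusion.conjSub g HK) :=
      ⟨⟨comm_of_big (isCharacter_res _ hχ) (fun a ha => Subtype.ext (hf _ ha)) hn
        (hcs.symm ▸ hHKbig)⟩⟩
    obtain ⟨l, hl, hleq⟩ := Fusion.exists_conjSub_eq_of_isMulCommutative_hall (L := K)
      hHKle h1 hHKc h2 (Nat.coprime_of_dvd fun q hq a b =>
        absurd (hH₀.2 q hq (hrel ▸ b)) (by have := hHKbig q hq a; omega)) hcs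
    have h3 : Fusion.conjSub (g * l⁻¹) HK = HK := by
      rw [← Fusion.conjSub_conjSub, ← hleq, Fusion.conjSub_conjSub, mul_inv_cancel,
        Fusion.conjSub_one]
    have h4 : g * l⁻¹ ∈ Nm := mem_normalizer_iff.2 fun y => by
      conv_lhs => rw [← h3]
      exact Fusion.mem_conjSub
    have h5 := mul_mem (mem_sup_left h4 : g * l⁻¹ ∈ Nm ⊔ K) (mem_sup_right hl)
    rwa [inv_mul_cancel_right] at h5
  have hHN : HK ≤ Nm := le_normalizer
  have hNidx : Nm.index ∣ HK.relIndex K := by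
    have h1 := Core.card_sup_mul_card_inf Nm K
    rw [hgen, card_top] at h1
    have h2 : Nm.index = (Nm ⊓ K).relIndex K := by
      refine Nat.eq_of_mul_eq_mul_left (Nat.mul_pos (Nat.card_pos (α := Nm))
        (Nat.card_pos (α := (Nm ⊓ K : Subgroup G)))) ?_
      have h3 : Nat.card (Nm ⊓ K : Subgroup G) * (Nm ⊓ K).relIndex K = Nat.card K := by
        rw [← relIndex_bot_left, relIndex_mul_relIndex _ _ _ bot_le inf_le_right,
          relIndex_bot_left]
      calc Nat.card Nm * Nat.card (Nm ⊓ K : Subgroup G) * Nm.index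
          = Nat.card (Nm ⊓ K : Subgroup G) * (Nat.card Nm * Nm.index) := by ring
        _ = Nat.card G * Nat.card (Nm ⊓ K : Subgroup G) := by rw [card_mul_index, mul_comm]
        _ = Nat.card Nm * Nat.card K := h1
        _ = Nat.card Nm * (Nat.card (Nm ⊓ K : Subgroup G) * (Nm ⊓ K).relIndex K) := by rw [h3]
        _ = _ := by ring
    rw [h2, ← relIndex_mul_relIndex _ _ _ (le_inf hHN hHKle) inf_le_right]
    exact dvd_mul_left _ _
  have hpN : ¬ p ∣ Nm.index := fun h =>
    absurd (hH₀.2 p hp (hrel ▸ h.trans hNidx)) (by omega)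
  obtain ⟨Q⟩ := (inferInstance : Nonempty (Sylow p Nm))
  set P₁ := (Q : Subgroup Nm).map Nm.subtype with hP₁
  have hP₁p : IsPGroup p P₁ := Q.isPGroup'.map _
  have hP₁idx : ¬ p ∣ P₁.index := by
    rw [hP₁, index_map_subtype]
    exact fun h => ((Nat.Prime.dvd_mul hp).1 h).elim Q.not_dvd_index hpN
  obtain ⟨k', hk'⟩ := IsPGroup.iff_card.1 hP₁p
  refine ⟨HK ⊔ P₁, fun q hq h => ?_, fun q hq h => ?_⟩
  · have h1 : Nat.card (HK ⊔ P₁ : Subgroup G) ∣ Nat.card HK * Nat.card P₁ := by
      have hle : (HK ⊔ P₁ : Subgroup G) ≤ Nm := sup_le hHN (map_subtype_le _)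
      have : (HK.subgroupOf Nm).Normal := normal_subgroupOf_iff_le_normalizer hHN |>.2 le_rfl
      have h2 := Core.card_sup_mul_card_inf (P₁.subgroupOf Nm) (HK.subgroupOf Nm)
      rw [← subgroupOf_sup (map_subtype_le _ : P₁ ≤ Nm) hHN, sup_comm P₁ HK, Nat.card_congr (subgroupOfEquivOfLe hle).toEquiv,
        Nat.card_congr (subgroupOfEquivOfLe hHN).toEquiv,
        Nat.card_congr (subgroupOfEquivOfLe (map_subtype_le _ : P₁ ≤ Nm)).toEquiv] at h2
      exact ⟨_, (h2.trans (mul_comm _ _)).symm⟩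
    rcases (Nat.Prime.dvd_mul hq).1 (h.trans h1) with h | h
    · exact hHKbig q hq h
    · rw [hk'] at h
      rwa [(Nat.prime_dvd_prime_iff_eq hq hp).1 (hq.dvd_of_dvd_pow h)]
  · by_contra hlt
    rcases eq_or_ne q p with rfl | hqp
    · exact hP₁idx (h.trans (index_dvd_of_le le_sup_right))
    · have h1 := h.trans (index_dvd_of_le (le_sup_left : HK ≤ HK ⊔ P₁))
      rw [hHK, index_map_subtype] at h1
      rcases (Nat.Prime.dvd_mul hq).1 h1 with h1 | h1
      · exact absurd (hH₀.2 q hq h1) hlt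
      · exact hqp ((Nat.prime_dvd_prime_iff_eq hq hp).1 (hq.dvd_of_dvd_pow (h1.trans hKidx)))

theorem exists_bigHall_noncentral {χ : G → ℂ} (hχ : IsCharacter G χ)
    (hf : ∀ g, χ g = χ 1 → g = 1) {n : ℕ} (hn : χ 1 = n)
    (hsub : ∀ L : Subgroup G, L ≠ ⊤ → ∃ H : Subgroup L, IsBigHall n H)
    (hcen : ∀ z : G, z ∈ center G → (orderOf z).Prime → orderOf z ≤ n + 1)
    {p : ℕ} (hp : p.Prime) (hpn : n + 1 < p) (hpG : p ∣ Nat.card G) :
    ∃ H : Subgroup G, IsBigHall n H := by
  have := Fact.mk hp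
  obtain ⟨x, hx⟩ := exists_prime_orderOf_dvd_card' p hpG
  have hC : ∀ {y : G}, (orderOf y).Prime → n + 1 < orderOf y →
      centralizer ({y} : Set G) ≠ ⊤ := fun {y} hy hyn e => by
    refine absurd (hcen y (mem_center_iff.2 fun g => ?_) hy) (by omega)
    exact (mem_centralizer_singleton_iff.1 (e ▸ mem_top g : g ∈ centralizer ({y} : Set G)))
  set C := centralizer ({x} : Set G) with hCdef
  obtain ⟨H₀, hH₀⟩ := hsub C (hC (hx.symm ▸ hp) (hx.symm ▸ hpn))
  have hxbig : IsBig n (Nat.card (zpowers x)) := fun q hq h => by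
    rw [Nat.card_zpowers, hx] at h
    rwa [(Nat.prime_dvd_prime_iff_eq hq hp).1 h]
  have hxC : zpowers x ≤ C := zpowers_le.2 (mem_centralizer_singleton_iff.2 rfl)
  obtain ⟨H, hxH, hHC, hHbig, hHidx⟩ := exists_bigHall_ge hχ hf hn hxC hxbig hH₀
  have hcommG : ∀ {S : Subgroup G}, IsBig n (Nat.card S) → ∀ a ∈ S, ∀ b ∈ S, a * b = b * a :=
    fun {S} hS a ha b hb => congrArg Subtype.val (comm_of_big (isCharacter_res S hχ)
      (fun g hg => Subtype.ext (hf _ hg)) hn hS ⟨a, ha⟩ ⟨b, hb⟩)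
  -- `H` is Hall in the centraliser of each of its elements of prime order
  have hCy : ∀ y ∈ H, (orderOf y).Prime →
      ∀ q : ℕ, q.Prime → n + 1 < q → q ∣ H.relIndex (centralizer ({y} : Set G)) → False := by
    intro y hy hyp q hq hqn hdvd
    have hyn : n + 1 < orderOf y := hHbig _ hyp (orderOf_dvd_natCard H hy)
    obtain ⟨H₀', hH₀'⟩ := hsub _ (hC hyp hyn)
    have hHy : H ≤ centralizer ({y} : Set G) := fun a ha =>
      mem_centralizer_singleton_iff.2 (hcommG hHbig a ha y hy)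
    obtain ⟨H', hle, hH'C, hH'big, hH'idx⟩ := exists_bigHall_ge hχ hf hn hHy hHbig hH₀'
    have hH'x : H' ≤ C := fun a ha =>
      mem_centralizer_singleton_iff.2 (hcommG hH'big a ha x (hle (hxH (mem_zpowers x))))
    have hd : Nat.card H' ∣ Nat.card H := by
      have h1 := card_dvd_of_le hH'x
      rw [← relIndex_bot_left C, ← relIndex_mul_relIndex _ _ _ bot_le hHC, relIndex_bot_left] at h1
      exact (Nat.coprime_of_dvd fun q hq a b =>
        absurd (hHidx q hq b) (by have := hH'big q hq a; omega)).dvd_of_dvd_mul_right h1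
    have heq : H = H' := eq_of_le_of_card_ge hle (Nat.le_of_dvd Nat.card_pos hd)
    subst heq
    exact absurd (hH'idx q hq hdvd) (by omega)
  -- the Sylow subgroups of `H` are Sylow in `G`
  have hfull : ∀ q : ℕ, q.Prime → q ∣ Nat.card H → ¬ q ∣ H.index := by
    intro q hq hqH hqi
    have := Fact.mk hq
    have hqn := hHbig q hq hqH
    obtain ⟨⟨y, hyH⟩, hy⟩ := exists_prime_orderOf_dvd_card' q hqH
    rw [← orderOf_coe, Subgroup.coe_mk] at hy
    have hzp : IsPGroup q (zpowers y) := IsPGroup.of_card (n := 1) (by rw [Nat.card_zpowers, hy, pow_one])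
    obtain ⟨Q, hyQ⟩ := hzp.exists_le_sylow
    obtain ⟨k, hk⟩ := IsPGroup.iff_card.1 Q.isPGroup'
    have hQbig : IsBig n (Nat.card (Q : Subgroup G)) := fun r hr h => by
      rw [hk] at h
      rwa [(Nat.prime_dvd_prime_iff_eq hr hq).1 (hr.dvd_of_dvd_pow h)]
    have hQC : (Q : Subgroup G) ≤ centralizer ({y} : Set G) := fun a ha =>
      mem_centralizer_singleton_iff.2 (hcommG hQbig a ha y (hyQ (mem_zpowers y)))
    have hHy : H ≤ centralizer ({y} : Set G) := fun a ha =>
      mem_centralizer_singleton_iff.2 (hcommG hHbig a ha y hyH)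
    rw [← relIndex_mul_index hHy] at hqi
    exact ((Nat.Prime.dvd_mul hq).1 hqi).elim
      (hCy y hyH (hy.symm ▸ hq) q hq hqn)
      (fun h => Q.not_dvd_index (h.trans (index_dvd_of_le hQC)))
  refine ⟨H, hHbig, fun r hr hri => ?_⟩
  by_contra hlt
  have hrn : n + 1 < r := by omega
  have hpH : p ∣ Nat.card H := hx ▸ orderOf_dvd_natCard H (hxH (mem_zpowers x))
  have hrH : ¬ r ∣ Nat.card H := fun h => hfull r hr h hri
  have hpr : p ≠ r := fun e => hrH (e ▸ hpH)
  obtain ⟨g, hg⟩ := exists_orderOf_dvd hχ hf hn hp hr hpr hpn hrn hpG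
    (hri.trans H.index_dvd_card)
  set w := g ^ (orderOf g / (p * r)) with hw
  have how : orderOf w = p * r := orderOf_pow_orderOf_div (orderOf_pos g).ne' hg
  set a := w ^ r with ha
  have hoa : orderOf a = p := by
    rw [ha, orderOf_pow_of_dvd hr.ne_zero (how ▸ dvd_mul_left r p), how,
      Nat.mul_div_cancel _ hr.pos]
  -- move `a` into `H`
  obtain ⟨Q⟩ := (inferInstance : Nonempty (Sylow p H))
  set P := (Q : Subgroup H).map H.subtype with hP
  have hPp : IsPGroup p P := Q.isPGroup'.map _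
  have hPi : ¬ p ∣ P.index := by
    rw [hP, index_map_subtype]
    exact fun h => ((Nat.Prime.dvd_mul hp).1 h).elim Q.not_dvd_index (hfull p hp hpH)
  have hza : IsPGroup p (zpowers a) := IsPGroup.of_card (n := 1) (by rw [Nat.card_zpowers, hoa, pow_one])
  obtain ⟨P', haP'⟩ := hza.exists_le_sylow
  obtain ⟨c, hc⟩ := MulAction.exists_smul_eq G P' (hPp.toSylow hPi)
  have hyH : c * a * c⁻¹ ∈ H := by
    have h1 : c * a * c⁻¹ ∈ (c • P' : Sylow p G).toSubgroup := by
      rw [Sylow.coe_subgroup_smul, ← MulAut.conj_apply]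
      exact smul_mem_pointwise_smul a (MulAut.conj c) _ (haP' (mem_zpowers a))
    rw [hc] at h1
    exact map_subtype_le _ h1
  have hoy : orderOf (c * a * c⁻¹) = p := by
    rw [← MulAut.conj_apply, MulEquiv.orderOf_eq, hoa]
  have hw' : c * w * c⁻¹ ∈ centralizer ({c * a * c⁻¹} : Set G) := by
    rw [mem_centralizer_singleton_iff, ha]
    simp only [← MulAut.conj_apply, ← map_mul, ← pow_succ, ← pow_succ']
  refine hCy _ hyH (hoy.symm ▸ hp) r hr hrn ?_
  have h1 : r ∣ Nat.card (centralizer ({c * a * c⁻¹} : Set G)) := by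
    refine (dvd_mul_left r p).trans ?_
    have h2 := orderOf_dvd_natCard _ hw'
    rwa [← MulAut.conj_apply, MulEquiv.orderOf_eq, how] at h2
  have hHy : H ≤ centralizer ({c * a * c⁻¹} : Set G) := fun b hb =>
    mem_centralizer_singleton_iff.2 (hcommG hHbig b hb _ hyH)
  rw [← relIndex_bot_left, ← relIndex_mul_relIndex _ _ _ bot_le hHy, relIndex_bot_left] at h1
  exact ((Nat.Prime.dvd_mul hr).1 h1).resolve_left hrH


theorem exists_bigHall_aux (n : ℕ) : ∀ (N : ℕ) (G : Type u) [Group G] [Finite G],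
    Nat.card G = N → ∀ χ : G → ℂ, IsCharacter G χ → (∀ g, χ g = χ 1 → g = 1) → χ 1 = n →
      ∃ H : Subgroup G, IsBigHall n H := by
  intro N
  induction N using Nat.strong_induction_on with
  | _ N ih =>
  intro G _ _ hN χ hχ hf hn
  have hsub : ∀ L : Subgroup G, L ≠ ⊤ → ∃ H : Subgroup L, IsBigHall n H := fun L hL =>
    ih _ (hN ▸ lt_of_le_of_ne L.card_le_card_group
      fun e => hL (L.eq_top_of_card_eq e)) L rfl _ (isCharacter_res L hχ)
      (fun g hg => Subtype.ext (hf _ hg)) hn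
  by_cases hex : ∃ p, p.Prime ∧ n + 1 < p ∧ p ∣ Nat.card G
  case neg =>
    push Not at hex
    refine ⟨⊥, fun q hq h => ?_, fun q hq h => ?_⟩
    · rw [card_bot] at h; exact absurd (Nat.dvd_one.1 h) hq.one_lt.ne'
    · by_contra hlt
      rw [index_bot] at h
      exact hex q hq (by omega) h
  by_cases hcen : ∃ z : G, z ∈ center G ∧ (orderOf z).Prime ∧ n + 1 < orderOf z
  · obtain ⟨z, hz, hp, hpn⟩ := hcen
    exact exists_bigHall_central hχ hf hn hsub hz hp hpn
  push Not at hcen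
  obtain ⟨p, hp, hpn, hpG⟩ := hex
  exact exists_bigHall_noncentral hχ hf hn hsub hcen hp hpn hpG

/-- Blichfeldt: there is an abelian Hall subgroup for the primes above `n + 1`. -/
theorem exists_bigHall {χ : G → ℂ} (hχ : IsCharacter G χ) (hf : ∀ g, χ g = χ 1 → g = 1)
    {n : ℕ} (hn : χ 1 = n) :
    ∃ H : Subgroup G, IsBigHall n H ∧ ∀ x ∈ H, ∀ y ∈ H, x * y = y * x := by
  obtain ⟨H, hH⟩ := exists_bigHall_aux n _ G rfl χ hχ hf hn
  exact ⟨H, hH, fun x hx y hy => congrArg Subtype.val (comm_of_big (isCharacter_res H hχ)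
    (fun g hg => Subtype.ext (hf _ hg)) hn hH.1 ⟨x, hx⟩ ⟨y, hy⟩)⟩

end Cfsg.Agent.Jordan
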