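import Cfsg.Agent.Jordan.Blichfeldt
import Cfsg.Agent.Jordan.AbelianBound
import Cfsg.Agent.Fusion.PGroup
import Mathlib.NumberTheory.PrimeCounting

/-!
The explicit bound `n! * 12 ^ (n * (π (n + 1) + 1))` for the index of an abelian normal subgroup
of a finite linear group of degree `n`.
-/

set_option autoImplicit false

namespace Cfsg.Agent.Jordan

open Subgroup Cfsg.Agent.Char

universe u

variable {G : Type u} [Group G] [Finite G]

/-- A `p`-group with a faithful character of degree `n` has an abelian subgroup of index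
dividing `n!`. -/
theorem exists_comm_index_dvd_factorial {p : ℕ} [Fact p.Prime] (hG : IsPGroup p G) {χ : G → ℂ}
    (hχ : IsCharacter G χ) (hf : ∀ g, χ g = χ 1 → g = 1) {n : ℕ} (hn : χ 1 = n) :
    ∃ A : Subgroup G, (∀ x ∈ A, ∀ y ∈ A, x * y = y * x) ∧ A.index ∣ n.factorial := by
  classical
  obtain ⟨A, -, hAn, hAc, hmax⟩ :=
    Fusion.exists_maximal_normal_abelian (⊥ : Subgroup G) inferInstance
  have hCA := Fusion.centralizer_eq_of_maximal_normal_abelian hG A hAc hmax
  have := Fintype.ofFinite G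
  have := Fintype.ofFinite A
  have hθ : IsCharacter A (fun a : A => χ a) := isCharacter_res A hχ
  set θ : A → ℂ := fun a => χ a with hθdef
  obtain ⟨m, hm, hexp, -⟩ := IsChar.exists_mult hθ
  have hdeg : ∀ ψ : IrrCharacter A, (ψ : A → ℂ) 1 = 1 :=
    fun ψ => IsIrr.degree_one_of_isMulCommutative ψ.2
  let Λ := {ψ : IrrCharacter A // m ψ ≠ 0}
  have hcard : Nat.card Λ ≤ n := by
    have h1 : (n : ℂ) = ((∑ ψ, m ψ : ℕ) : ℂ) := by
      rw [← hn, show χ 1 = θ 1 from rfl, hexp]
      simp [Finset.sum_apply, hdeg]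
    rw [Nat.cast_inj.1 h1, Nat.card_eq_fintype_card, Fintype.card_subtype, Finset.card_eq_sum_ones]
    exact (Finset.sum_le_sum fun ψ hψ =>
      Nat.one_le_iff_ne_zero.2 (Finset.mem_filter.1 hψ).2).trans
        (Finset.sum_le_sum_of_subset (Finset.filter_subset _ _))
  -- the conjugation action on constituents
  let c : G → A → A := fun g a => ⟨g * a * g⁻¹, hAn.conj_mem _ a.2 g⟩
  let e : G → A ≃* A := fun g =>
    { toFun := c g
      invFun := c g⁻¹
      left_inv := fun a => Subtype.ext (by simp [c, mul_assoc])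
      right_inv := fun a => Subtype.ext (by simp [c, mul_assoc])
      map_mul' := fun a b => Subtype.ext (by simp [c, mul_assoc]) }
  have hirr : ∀ (g : G) (ψ : IrrCharacter A), IsIrrCharacter A (fun a => (ψ : A → ℂ) (c g a)) :=
    fun g ψ => isIrrCharacter_comp (e g).toMonoidHom (e g).surjective ψ.2
  let tw : G → IrrCharacter A → IrrCharacter A := fun g ψ =>
    ⟨fun a => (ψ : A → ℂ) (c g⁻¹ a), hirr g⁻¹ ψ⟩
  have htw : ∀ g ψ, m (tw g ψ) = m ψ := by
    intro g ψ
    have h1 := hm (tw g ψ)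
    rw [classInner, ← Equiv.sum_comp (e g).toEquiv] at h1
    have h2 := hm ψ
    rw [classInner] at h2
    have : (m (tw g ψ) : ℂ) = m ψ := by
      rw [← h1, ← h2]
      congr 1
      refine Finset.sum_congr rfl fun a _ => ?_
      congr 1
      · exact isClassFunction_of_isCharacter hχ a g
      · congr 1
        exact congrArg (ψ : A → ℂ) ((e g).left_inv a)
    exact_mod_cast this
  let _ : MulAction G Λ :=
    { smul := fun g ψ => ⟨tw g ψ.1, by rw [htw]; exact ψ.2⟩
      one_smul := fun ψ => Subtype.ext (Subtype.ext (funext fun a => by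
        show (ψ.1 : A → ℂ) (c 1⁻¹ a) = _
        refine congrArg (ψ.1 : A → ℂ) (Subtype.ext ?_)
        exact (show (1 : G)⁻¹ * (a : G) * (1 : G)⁻¹⁻¹ = a by group)))
      mul_smul := fun g h ψ => Subtype.ext (Subtype.ext (funext fun a => by
        show (ψ.1 : A → ℂ) (c (g * h)⁻¹ a) = (ψ.1 : A → ℂ) (c h⁻¹ (c g⁻¹ a))
        refine congrArg (ψ.1 : A → ℂ) (Subtype.ext ?_)
        exact (show (g * h)⁻¹ * (a : G) * (g * h)⁻¹⁻¹ =
          h⁻¹ * (g⁻¹ * a * g⁻¹⁻¹) * h⁻¹⁻¹ by group))) }
  let f : G →* Equiv.Perm Λ := MulAction.toPermHom G Λ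
  have hker : f.ker ≤ A := by
    intro g hg
    rw [← hCA, mem_centralizer_iff]
    intro a ha
    have hg' : g⁻¹ ∈ f.ker := inv_mem hg
    suffices h : (⟨a, ha⟩ : A)⁻¹ * c g ⟨a, ha⟩ = 1 by
      have h1 := congrArg Subtype.val (inv_mul_eq_one.1 h)
      simp only [c] at h1
      exact eq_mul_inv_iff_mul_eq.1 h1
    refine Subtype.ext (hf _ ?_)
    show θ _ = θ 1
    rw [hexp]
    simp only [Finset.sum_apply, Pi.smul_apply, smul_eq_mul]
    refine Finset.sum_congr rfl fun ψ _ => ?_
    by_cases h0 : m ψ = 0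
    · simp [h0]
    congr 1
    obtain ⟨l, hl⟩ := IsChar.exists_hom (IsIrr.isCharacter ψ.2) (hdeg ψ)
    have h2 : tw g⁻¹ ψ = ψ := congrArg Subtype.val
      (Equiv.congr_fun (MonoidHom.mem_ker.1 hg') (⟨ψ, h0⟩ : Λ))
    have h3 : (ψ : A → ℂ) (c g ⟨a, ha⟩) = (ψ : A → ℂ) ⟨a, ha⟩ := by
      have h4 := congrFun (congrArg Subtype.val h2) ⟨a, ha⟩
      simpa [tw] using h4
    rw [hl] at h3 ⊢
    simp only [map_mul, map_inv, Units.val_inj.1 h3, inv_mul_cancel, map_one]
  refine ⟨A, fun x hx y hy => congrArg Subtype.val (hAc.is_comm.comm ⟨x, hx⟩ ⟨y, hy⟩), ?_⟩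
  refine (index_dvd_of_le hker).trans ?_
  rw [index_ker]
  refine (card_subgroup_dvd_card _).trans ?_
  rw [Nat.card_perm]
  exact Nat.factorial_dvd_factorial hcard

/-- The explicit bound for finite linear groups of degree `n`. -/
theorem index_le_explicit {χ : G → ℂ} (hχ : IsCharacter G χ) (hf : ∀ g, χ g = χ 1 → g = 1)
    {n : ℕ} (hn : χ 1 = n) {A : Subgroup G}
    (hA : ∀ H : Subgroup G, (∀ x ∈ H, ∀ y ∈ H, x * y = y * x) → A.relIndex H ≤ 12 ^ n) :
    A.index ≤ n.factorial * 12 ^ (n * (Nat.primeCounting (n + 1) + 1)) := by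
  classical
  set S := (Finset.range (n + 2)).filter Nat.Prime with hS
  have hSmem : ∀ {p}, p ∈ S ↔ p ≤ n + 1 ∧ p.Prime := by
    intro p
    rw [hS, Finset.mem_filter, Finset.mem_range]
    exact and_congr_left fun _ => Nat.lt_succ_iff
  have hScard : S.card = Nat.primeCounting (n + 1) := by
    rw [hS, Nat.primeCounting, Nat.primeCounting', Nat.count_eq_card_filter_range]
  set a := fun p => n.factorial.factorization p
  obtain ⟨H, hH, hHc⟩ := exists_bigHall hχ hf hn
  have key : ∀ p : ℕ, p.Prime → ∃ P : Subgroup G,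
      ¬ p ∣ P.index ∧ A.relIndex P ≤ p ^ a p * 12 ^ n := by
    intro p hp
    have := Fact.mk hp
    obtain ⟨P⟩ := (inferInstance : Nonempty (Sylow p G))
    refine ⟨P, P.not_dvd_index, ?_⟩
    obtain ⟨D, hDc, hDi⟩ := exists_comm_index_dvd_factorial P.isPGroup'
      (isCharacter_res (P : Subgroup G) hχ) (fun g hg => Subtype.ext (hf _ hg)) hn
    set D' := D.map (P : Subgroup G).subtype with hD'
    have hD'c : ∀ x ∈ D', ∀ y ∈ D', x * y = y * x := by
      rintro _ ⟨x, hx, rfl⟩ _ ⟨y, hy, rfl⟩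
      exact congrArg Subtype.val (hDc x hx y hy)
    have hrel : D'.relIndex (P : Subgroup G) = D.index := by
      rw [relIndex, subgroupOf, hD', comap_map_eq_self_of_injective (Subgroup.subtype_injective _)]
    have h1 : D.index ≤ p ^ a p := by
      obtain ⟨k, hk⟩ := P.isPGroup'.index D
      rw [hk] at hDi ⊢
      exact Nat.pow_le_pow_right hp.pos
        ((hp.pow_dvd_iff_le_factorization n.factorial_ne_zero).1 hDi)
    calc A.relIndex (P : Subgroup G) ≤ (A ⊓ D').relIndex (P : Subgroup G) :=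
          Nat.le_of_dvd (Nat.pos_of_ne_zero index_ne_zero_of_finite)
            (relIndex_dvd_of_le_left _ inf_le_left)
      _ = A.relIndex D' * D'.relIndex (P : Subgroup G) := by
          rw [← inf_relIndex_right A D', relIndex_mul_relIndex _ _ _ inf_le_right (map_subtype_le _)]
      _ ≤ 12 ^ n * p ^ a p := by
          rw [hrel]; exact Nat.mul_le_mul (hA D' hD'c) h1
      _ = p ^ a p * 12 ^ n := mul_comm _ _
  choose P hPi hPb using key
  let b : {x // x ∈ S} → ℕ := fun p => A.relIndex (P p.1 (hSmem.1 p.2).2)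
  set M := (∏ p ∈ S.attach, b p) * A.relIndex H with hM
  have hdvd : A.index ∣ M := by
    rw [Nat.dvd_iff_prime_pow_dvd_dvd]
    intro q k hq hqk
    have hmain : ∀ K : Subgroup G, ¬ q ∣ K.index → q ^ k ∣ A.relIndex K := fun K hK => by
      have h1 : q ^ k ∣ A.relIndex K * K.index := by
        rw [← inf_relIndex_right, relIndex_mul_index inf_le_right]
        exact hqk.trans (index_dvd_of_le inf_le_left)
      exact ((hq.coprime_iff_not_dvd.2 hK).pow_left k).dvd_of_dvd_mul_right h1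
    by_cases hqs : q ∈ S
    · have h2 : b ⟨q, hqs⟩ ∣ ∏ p ∈ S.attach, b p :=
        Finset.dvd_prod_of_mem b (Finset.mem_attach _ ⟨q, hqs⟩)
      exact Dvd.dvd.mul_right ((hmain _ (hPi q hq)).trans h2) _
    · refine Dvd.dvd.mul_left (hmain H fun h => hqs (hSmem.2 ⟨hH.2 q hq h, hq⟩)) _
  refine (Nat.le_of_dvd ?_ hdvd).trans ?_
  · exact Nat.mul_pos (Finset.prod_pos fun p _ => Nat.pos_of_ne_zero index_ne_zero_of_finite)
      (Nat.pos_of_ne_zero index_ne_zero_of_finite)
  have hprod : ∏ p ∈ S, p ^ a p ≤ n.factorial := by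
    refine Nat.le_of_dvd n.factorial_pos ?_
    conv_rhs => rw [← Nat.prod_factorization_pow_eq_self n.factorial_ne_zero]
    rw [Finsupp.prod, Nat.support_factorization,
      ← Finset.prod_subset (Finset.inter_subset_left : S ∩ n.factorial.primeFactors ⊆ S)
        fun p hp hp' => by
          have : p ∉ n.factorial.factorization.support := by
            rw [Nat.support_factorization]; exact fun h => hp' (Finset.mem_inter.2 ⟨hp, h⟩)
          simp [a, Finsupp.notMem_support_iff.1 this]]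
    exact Finset.prod_dvd_prod_of_subset _ _ _ Finset.inter_subset_right
  calc M ≤ (∏ p ∈ S.attach, p.1 ^ a p.1 * 12 ^ n) * 12 ^ n :=
        Nat.mul_le_mul (Finset.prod_le_prod' fun p _ => hPb p.1 _) (hA H hHc)
    _ = (∏ p ∈ S, p ^ a p) * 12 ^ (n * (Nat.primeCounting (n + 1) + 1)) := by
        rw [Finset.prod_attach S (fun p => p ^ a p * 12 ^ n), Finset.prod_mul_distrib,
          Finset.prod_const, hScard]
        ring
    _ ≤ _ := Nat.mul_le_mul_right _ hprod

end Cfsg.Agent.Jordan
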