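import Cfsg.Prelude.Def_Characters
import Mathlib.Analysis.InnerProductSpace.PiL2
import Mathlib.Analysis.InnerProductSpace.Projection.FiniteDimensional
import Mathlib.Analysis.Normed.Module.FiniteDimension
import Mathlib.LinearAlgebra.Eigenspace.Triangularizable
import Mathlib.Analysis.Complex.Polynomial.Basic

/-!
Finite groups of unitary operators: unitarisation, and the classical contraction argument showing
that elements close to scalars commute.
-/

set_option autoImplicit false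

namespace Cfsg.Agent.Jordan

open Module

universe u v

variable {G : Type u} [Group G]

/-- Every representation of a finite group on `Fin m → ℂ` is equivalent to one by isometries of a
complex inner product space. -/
theorem exists_unitary [Finite G] {m : ℕ} (ρ : Representation ℂ G (Fin m → ℂ)) :
    ∃ (S : Type u) (_ : NormedAddCommGroup S) (_ : InnerProductSpace ℂ S)
      (_ : FiniteDimensional ℂ S) (σ : G →* (S →L[ℂ] S)),
      (∀ g v, ‖σ g v‖ = ‖v‖) ∧ finrank ℂ S = m ∧
      ∀ g, σ g = 1 → ρ g = 1 := by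
  classical
  cases nonempty_fintype G
  let E := EuclideanSpace ℂ (G × Fin m)
  let Φ : (Fin m → ℂ) →ₗ[ℂ] E :=
    { toFun := fun v => WithLp.toLp 2 fun p => ρ p.1 v p.2
      map_add' := fun a b => by ext p; simp; rfl
      map_smul' := fun c a => by ext p; simp; rfl }
  have hΦ : Function.Injective Φ := fun a b h => funext fun i => by
    have := congrArg (fun w : E => w.ofLp (1, i)) h
    simpa [Φ] using this
  let S := LinearMap.range Φ
  let e : (Fin m → ℂ) ≃ₗ[ℂ] S := LinearEquiv.ofInjective Φ hΦ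
  let σ : G →* (S →L[ℂ] S) :=
    { toFun := fun g => LinearMap.toContinuousLinearMap (e.conj (ρ g))
      map_one' := by ext x; simp [LinearEquiv.conj_apply]
      map_mul' := fun a b => by ext x; simp [LinearEquiv.conj_apply] }
  refine ⟨S, inferInstance, inferInstance, inferInstance, σ, fun g v => ?_, ?_, fun g hg => ?_⟩
  · obtain ⟨w, rfl⟩ := e.surjective v
    have h1 : σ g (e w) = e (ρ g w) := by simp [σ, LinearEquiv.conj_apply]
    rw [h1]
    change ‖Φ (ρ g w)‖ = ‖Φ w‖
    rw [EuclideanSpace.norm_eq, EuclideanSpace.norm_eq]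
    congr 1
    refine Fintype.sum_equiv ((Equiv.mulRight g).prodCongr (Equiv.refl _)) _ _ fun p => ?_
    simp [Φ]
  · rw [← e.finrank_eq, finrank_fin_fun]
  · refine LinearMap.ext fun w => ?_
    apply e.injective
    have : σ g (e w) = e w := by rw [hg]; rfl
    simpa [σ, LinearEquiv.conj_apply] using this

variable {S : Type v} [NormedAddCommGroup S] [InnerProductSpace ℂ S] (σ : G →* (S →L[ℂ] S))

theorem sigma_inv_apply (g : G) (v : S) : σ g⁻¹ (σ g v) = v := by
  rw [← mul_apply_eq_comp, ← map_mul, inv_mul_cancel, map_one]; rfl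

theorem sigma_apply_inv (g : G) (v : S) : σ g (σ g⁻¹ v) = v := by
  rw [← mul_apply_eq_comp, ← map_mul, mul_inv_cancel, map_one]; rfl

variable {σ}

/-- The elements within distance less than `1/2` of a scalar. -/
def nearScalar (σ : G →* (S →L[ℂ] S)) : Set G :=
  {x | ∃ c : ℂ, ‖σ x - c • 1‖ < 1 / 2}

theorem norm_mul_isometry_le {X : S →L[ℂ] S} (hσ : ∀ g v, ‖σ g v‖ = ‖v‖) (g : G) :
    ‖X * σ g‖ ≤ ‖X‖ :=
  ContinuousLinearMap.opNorm_le_bound _ (norm_nonneg X) fun v => by
    simpa [hσ g v] using X.le_opNorm (σ g v)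

theorem norm_isometry_mul_le {X : S →L[ℂ] S} (hσ : ∀ g v, ‖σ g v‖ = ‖v‖) (g : G) :
    ‖σ g * X‖ ≤ ‖X‖ :=
  ContinuousLinearMap.opNorm_le_bound _ (norm_nonneg X) fun v => by
    simpa [hσ g] using X.le_opNorm v

theorem nearScalar_conj (hσ : ∀ g v, ‖σ g v‖ = ‖v‖) {x : G} (hx : x ∈ nearScalar σ) (g : G) :
    g * x * g⁻¹ ∈ nearScalar σ := by
  obtain ⟨c, hc⟩ := hx
  refine ⟨c, lt_of_le_of_lt ?_ hc⟩
  have : σ (g * x * g⁻¹) - c • 1 = σ g * (σ x - c • 1) * σ g⁻¹ := by
    rw [map_mul, map_mul, mul_sub, sub_mul, mul_smul_comm, smul_mul_assoc, mul_one]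
    rw [show σ g * σ g⁻¹ = 1 by rw [← map_mul, mul_inv_cancel, map_one]]
  rw [this]
  exact (norm_mul_isometry_le hσ _).trans (norm_isometry_mul_le hσ _)

theorem norm_commutator_sub_one_le (hσ : ∀ g v, ‖σ g v‖ = ‖v‖) (x w : G) (c d : ℂ) :
    ‖σ (x * w * x⁻¹ * w⁻¹) - 1‖ ≤ 2 * ‖σ x - c • 1‖ * ‖σ w - d • 1‖ := by
  set A := σ x - c • 1 with hA
  set B := σ w - d • 1 with hB
  have hcomm : σ x * σ w - σ w * σ x = A * B - B * A := by
    simp only [hA, hB, sub_mul, mul_sub, smul_mul_assoc, mul_smul_comm, one_mul, mul_one]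
    module
  have heq : σ (x * w * x⁻¹ * w⁻¹) - 1 = (σ x * σ w - σ w * σ x) * σ (x⁻¹ * w⁻¹) := by
    have h1 : σ w * σ x * σ (x⁻¹ * w⁻¹) = 1 := by
      rw [← map_mul, ← map_mul]; simp [mul_assoc]
    rw [sub_mul, h1, ← map_mul, ← map_mul]
    simp [mul_assoc]
  rw [heq, hcomm]
  refine (norm_mul_isometry_le hσ _).trans ?_
  refine (norm_sub_le _ _).trans ?_
  nlinarith [norm_mul_le A B, norm_mul_le B A, mul_comm ‖A‖ ‖B‖]

/-- If `x` commutes with its conjugate by `w` and `w` is close to a scalar, then `x` and `w`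
commute. -/
theorem commute_of_commute_conj [Finite G] [FiniteDimensional ℂ S]
    (hσ : ∀ g v, ‖σ g v‖ = ‖v‖) (hinj : Function.Injective σ) {x w : G} (hw : w ∈ nearScalar σ)
    (hc : Commute x (w * x * w⁻¹)) : Commute x w := by
  by_contra hne
  set z := x⁻¹ * (w * x * w⁻¹) with hz
  have hz1 : z ≠ 1 := fun h => hne (by
    rw [hz, inv_mul_eq_one, eq_mul_inv_iff_mul_eq] at h
    exact h)
  have hxz : Commute x z := (Commute.refl x).inv_right.mul_right hc
  let R : Submodule ℂ S := LinearMap.range ((σ z - 1).toLinearMap)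
  have hRfix : ∀ v ∈ R, σ z v = v → v = 0 := by
    rintro v ⟨u, rfl⟩ hv
    set v := (σ z - 1).toLinearMap u with hvdef
    have hzu : σ z u = u + v := by simp [hvdef]
    have hpow : ∀ k : ℕ, σ (z ^ k) u = u + (k : ℂ) • v := by
      intro k
      induction k with
      | zero => simp
      | succ k ih =>
        rw [pow_succ', map_mul, mul_apply_eq_comp, ih, map_add, map_smul, hzu, hv]
        push_cast
        module
    have := hpow (orderOf z)
    simp only [pow_orderOf_eq_one, map_one, one_apply_eq_self] at this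
    have h0 : ((orderOf z : ℕ) : ℂ) • v = 0 := add_left_cancel (this.symm.trans (add_zero u).symm)
    exact (smul_eq_zero.mp h0).resolve_left (Nat.cast_ne_zero.mpr (orderOf_pos z).ne')
  have hRinv : ∀ g, Commute g z → ∀ v ∈ R, σ g v ∈ R := by
    rintro g hg v ⟨u, rfl⟩
    refine ⟨σ g u, ?_⟩
    have : σ z (σ g u) = σ g (σ z u) := by
      rw [← mul_apply_eq_comp, ← mul_apply_eq_comp, ← map_mul, ← map_mul,
        hg.eq]
    simp [this]
  have hRne : R ≠ ⊥ := fun h => by
    refine hz1 (hinj ?_)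
    ext u
    have hu : (σ z - 1).toLinearMap u ∈ R := LinearMap.mem_range_self _ u
    rw [h, Submodule.mem_bot] at hu
    simpa [sub_eq_zero] using hu
  have : Nontrivial R := Submodule.nontrivial_iff_ne_bot.mpr hRne
  let fx : Module.End ℂ R := (σ x : S →ₗ[ℂ] S).restrict (hRinv x hxz)
  let fz : Module.End ℂ R := (σ z : S →ₗ[ℂ] S).restrict (hRinv z (Commute.refl z))
  obtain ⟨a, ha⟩ := Module.End.exists_eigenvalue fx
  have hEinv : ∀ v ∈ fx.eigenspace a, fz v ∈ fx.eigenspace a := by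
    intro v hv
    rw [Module.End.mem_eigenspace_iff] at hv ⊢
    apply Subtype.ext
    have h1 : σ x (v : S) = a • (v : S) := congrArg Subtype.val hv
    change σ x (σ z v) = a • σ z v
    rw [← map_smul, ← h1, ← mul_apply_eq_comp, ← mul_apply_eq_comp,
      ← map_mul, ← map_mul, hxz.eq]
  have : Nontrivial (fx.eigenspace a) := Submodule.nontrivial_iff_ne_bot.mpr ha
  obtain ⟨c, hc'⟩ := Module.End.exists_eigenvalue (fz.restrict hEinv)
  obtain ⟨⟨⟨v, hvR⟩, hvE⟩, hv⟩ := hc'.exists_hasEigenvector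
  have hv0 : v ≠ 0 := fun h => hv.2 (Subtype.ext (Subtype.ext h))
  have hxv : σ x v = a • v := congrArg Subtype.val (Module.End.mem_eigenspace_iff.mp hvE)
  have hzv : σ z v = c • v :=
    congrArg (fun t : fx.eigenspace a => ((t : R) : S)) hv.apply_eq_smul
  have hc1 : c ≠ 1 := fun h => hv0 (hRfix v hvR (by rw [hzv, h, one_smul]))
  have hva : ‖a‖ = 1 := by
    have h1 := hσ x v
    rw [hxv, norm_smul] at h1
    exact mul_right_cancel₀ (norm_ne_zero_iff.mpr hv0) (h1.trans (one_mul _).symm)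
  set u := σ w⁻¹ v with hu
  have hxu : σ x u = (c * a) • u := by
    have h1 : σ x u = σ w⁻¹ (σ (w * x * w⁻¹) v) := by
      rw [hu, ← mul_apply_eq_comp, ← mul_apply_eq_comp, ← map_mul, ← map_mul]
      simp [← mul_assoc]
    have h2 : σ (w * x * w⁻¹) v = (c * a) • v := by
      rw [show w * x * w⁻¹ = x * z by rw [hz, mul_inv_cancel_left], map_mul,
        mul_apply_eq_comp, hzv, map_smul, hxv, smul_smul]
    rw [h1, h2, map_smul]
  have hu0 : ‖u‖ = ‖v‖ := hσ _ _
  have hvb : ‖c * a‖ = 1 := by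
    have h1 := hσ x u
    rw [hxu, norm_smul] at h1
    exact mul_right_cancel₀ (by rw [hu0]; exact norm_ne_zero_iff.mpr hv0) (h1.trans (one_mul _).symm)
  have horth : (inner ℂ v u : ℂ) = 0 := by
    let L : S →ₗᵢ[ℂ] S := { toLinearMap := (σ x : S →ₗ[ℂ] S), norm_map' := hσ x }
    have h1 : (inner ℂ (σ x v) (σ x u) : ℂ) = inner ℂ v u := L.inner_map_map v u
    rw [hxv, hxu, inner_smul_left, inner_smul_right, ← mul_assoc] at h1
    by_contra hne0
    have h2 : (starRingEnd ℂ) a * (c * a) = 1 :=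
      mul_right_cancel₀ hne0 (h1.trans (one_mul _).symm)
    have h3 : (starRingEnd ℂ) a * a = 1 := by
      rw [Complex.conj_mul', hva]; simp
    exact hc1 (by linear_combination h2 - c * h3)
  obtain ⟨d, hd⟩ := hw
  have hBu : ‖(σ w - d • 1) u‖ ≤ ‖σ w - d • 1‖ * ‖u‖ := ContinuousLinearMap.le_opNorm _ _
  have hwu : (σ w - d • 1) u = v - d • u := by
    simp [hu, sigma_apply_inv]
  rw [hwu] at hBu
  have hpy := norm_sub_sq (𝕜 := ℂ) v (d • u)
  rw [inner_smul_right, horth, norm_smul, hu0] at hpy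
  simp only [mul_zero, map_zero, sub_zero] at hpy
  have hpos : 0 < ‖v‖ := norm_pos_iff.mpr hv0
  rw [hu0] at hBu
  have h5 : ‖v - d • u‖ < ‖v‖ := by
    refine lt_of_le_of_lt hBu ?_
    nlinarith
  nlinarith [norm_nonneg (v - d • u), sq_nonneg (‖d‖ * ‖v‖)]

/-- Elements close to scalars commute. -/
theorem nearScalar_commute [Finite G] [FiniteDimensional ℂ S] (hσ : ∀ g v, ‖σ g v‖ = ‖v‖)
    (hinj : Function.Injective σ) {x y : G} (hx : x ∈ nearScalar σ) (hy : y ∈ nearScalar σ) :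
    Commute x y := by
  obtain ⟨c, hc⟩ := hx
  obtain ⟨d, hd⟩ := hy
  obtain ⟨W, hW0, hW⟩ : ∃ W : ℕ → G, W 0 = y ∧ ∀ k, W (k + 1) = x * W k * x⁻¹ * (W k)⁻¹ :=
    ⟨fun k => (fun w => x * w * x⁻¹ * w⁻¹)^[k] y, rfl, fun k => Function.iterate_succ_apply' _ _ _⟩
  set r := 2 * ‖σ x - c • 1‖ with hr
  have hr0 : 0 ≤ r := by positivity
  have hr1 : r < 1 := by linarith
  have hb : ∀ k, ∃ e : ℂ, ‖σ (W k) - e • 1‖ ≤ r ^ k * ‖σ y - d • 1‖ := by
    intro k
    induction k with
    | zero => exact ⟨d, by simp [hW0]⟩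
    | succ k ih =>
      obtain ⟨e, he⟩ := ih
      refine ⟨1, ?_⟩
      have h1 := norm_commutator_sub_one_le hσ x (W k) c e
      rw [← hW k, ← hr] at h1
      have h2 : r * ‖σ (W k) - e • 1‖ ≤ r * (r ^ k * ‖σ y - d • 1‖) :=
        mul_le_mul_of_nonneg_left he hr0
      rw [one_smul, pow_succ', mul_assoc]
      exact h1.trans h2
  have hnear : ∀ k, W k ∈ nearScalar σ := fun k => by
    obtain ⟨e, he⟩ := hb k
    exact ⟨e, lt_of_le_of_lt (he.trans (mul_le_of_le_one_left (norm_nonneg _)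
      (pow_le_one₀ hr0 hr1.le))) hd⟩
  have hterm : ∃ k, Commute x (W k) := by
    classical
    cases nonempty_fintype G
    by_contra hno
    push Not at hno
    have hne : ∀ k, W (k + 1) ≠ 1 := fun k h => hno k (by
      rw [hW, mul_inv_eq_one, mul_inv_eq_iff_eq_mul] at h
      exact h)
    obtain ⟨g, hg, hmin⟩ := Finset.exists_min_image (Finset.univ.filter fun g : G => g ≠ 1)
      (fun g => ‖σ g - 1‖) ⟨W 1, Finset.mem_filter.mpr ⟨Finset.mem_univ _, hne 0⟩⟩
    have hgpos : 0 < ‖σ g - 1‖ := by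
      rw [norm_pos_iff, sub_ne_zero, ← map_one σ]
      exact fun h => (Finset.mem_filter.mp hg).2 (hinj h)
    obtain ⟨k, hk⟩ := exists_pow_lt_of_lt_one hgpos hr1
    obtain ⟨e, he⟩ := hb k
    have h1 := hmin (W (k + 1)) (Finset.mem_filter.mpr ⟨Finset.mem_univ _, hne k⟩)
    rw [hW] at h1
    have h2 := norm_commutator_sub_one_le hσ x (W k) c e
    have h3 : ‖σ (W k) - e • 1‖ < 1 := by
      linarith [he.trans (mul_le_of_le_one_left (norm_nonneg _) (pow_le_one₀ (n := k) hr0 hr1.le))]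
    have h4 : ‖σ (W k) - e • 1‖ ≤ r ^ k := he.trans (mul_le_of_le_one_right (pow_nonneg hr0 k)
      (by linarith))
    nlinarith [norm_nonneg (σ (W k) - e • 1)]
  obtain ⟨k, hk⟩ := hterm
  induction k with
  | zero => simpa [hW0] using hk
  | succ k ih =>
    apply ih
    refine commute_of_commute_conj hσ hinj (hnear k) ?_
    have h1 : W k * x * (W k)⁻¹ = (W (k + 1))⁻¹ * x := by
      rw [hW]; group
    have h2 : W k * x * (W k)⁻¹ = ((W k * x⁻¹ * (W k)⁻¹))⁻¹ := by group
    have h3 : Commute x (x⁻¹ * W (k + 1)) := (Commute.refl x).inv_right.mul_right hk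
    have h4 : x⁻¹ * W (k + 1) = W k * x⁻¹ * (W k)⁻¹ := by rw [hW]; group
    rw [h2, ← h4]
    exact h3.inv_right

end Cfsg.Agent.Jordan
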